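import Cfsg.Agent.Lib.TC.Enc

namespace Cfsg.Agent.Lib.Y532.D.E6_T0

open Cfsg.Agent.Lib.TC.Enc

set_option maxRecDepth 100000

/-- A part of a table. -/
noncomputable def tree : Tr Nat :=
  (Tr.node (Tr.leaf (nat_lit 0x6c000028873d6c049a02315c63d68135640458e2c0000a214e550ab5146e541305f10e530ee526a00002887353c041702292c1ad385bd6103530a80000a244c4928c4800f5642c4704a4524c4669000028872d0c0394022500635345ad0902d04200000a23ea3e22a3d00d4a0693c00c440283a070000288fa4e08a4dc02cfc7a8ecf24d809cd6980000a20c62e308332e832067313a82f00a39a40000288310a0c1cb0b9cacb20c0114a8024d1100000a20082d3862636625064223462432623a3000028830c70c1480b947cb1478e9ca4a94748c0000a2007272841a264190062104317244180200002880146c88c5480c5078c4c0105808849840000a21c2101a20f0810c1820e1620d0031180000028850428280180082c48424404203841c000000a25200400105500034e0024c0014a000))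
 (Tr.leaf (nat_lit 0x1640000a249aa139aa037a9f0799c35a9e33a9d38000028916668a66649e66006a6c162589665c5c0000a23f89423893218921f8910199503790b5000028835624c5e3825a34b5e2cede280623ecc0000a20d3820b4872f78c2d6853b6842b68373000028805e206d60024df0655fc5d5f9055f6c40000a20d176316862f47a2d4793b4782b47791000028805a042c5c0055ec4cdd044dcc0c9ca3c0000a21526e0af694726d1326c0506b0f3710f0000288051d404dbc8459c7c598f45940bd92340000a2150620ad5d4706106e601126a0f05e)))

end Cfsg.Agent.Lib.Y532.D.E6_T0
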