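import Cfsg.Agent.Lib.TC.Enc

namespace Cfsg.Agent.Lib.Y532.D.E7_T0

open Cfsg.Agent.Lib.TC.Enc

set_option maxRecDepth 100000

/-- A part of a table. -/
noncomputable def tree : Tr Nat :=
  (Tr.node (Tr.node (Tr.leaf (nat_lit 0x460000031044f351040de3cf348048f20cc332f3cd034f33c2c00001885c719169c630a597cf1c623a7184e22743671809600000c41634ba18c2e0044e44cd2d0040d608b2c2c34b24a00000620b18562a696ca185526615001e65045149618530480000310acb2806289e00e2f192c9a60b260034ae049258200000188565124d164e545120c9447305118018510241170e00000c4071c7a18821a924828892021247e8091f002c95850000062038a3646490828c3b4440e5090384040dc01444a2800003100091e06145ea071a271c6698719251c629071861000001880e20a118c2d5240e910c2c4230ad00c2a3e30a60800000c400206a00717051044785131d144a705121b1446030000062000c2734208000a2132207cc081e2e20740861c21000003105830d150c325030c130c2e4830b02082a0040da04000018822104c804121e104470410060838006141a103d8000000c40c04182c1058a04141000380081a241048804100000000621b80056c0011a8003000819a000266000590000))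
 (Tr.leaf (nat_lit 0xb680000310032ad86b68e031aa27be989afa5a5be9406ea4dac00001886375143573f5175113dd434d750815941497d205600000c400c29a02fa32ab67a66d9e18b6765ed9d01ae7369000006218d9370d4cc5459364f64d41d5344b7501259329400000310bab9780ba7c168951eae5c76b9682a65802d9c59800001886354a034d2251549c24f264d64cd2d52449548e4a00000c42ea64002c980596367a98f839a3c72b959ba6386500000620b51192b44600572927445c95116052c5165115b200000310c678906921aa2788a7aa4a9a788259e1e9278748c00001885d342c055210b1c182490a3b4c74e4d0837341c4400000c42b96086a58180a63466581038e02028898189ff2100000621748fd013c302c2f93d3424ec8fc3923ecdc8fa1000000310ae37b9a8dec026828485ea62580178de60607967c00001880efba91c4f05313bd144ee0703b5044eb012bf83c00000c42b85d06a1738091f06637a1885cc5e1728179c99c000006203b8dc4703894c0e108f3810c4ec04eb78046f1)))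
 (Tr.node (Tr.leaf (nat_lit 0x4e0000031002274907db43df6c8e7db00dc6aaf7dae35f6b66800001880ed3391bcd352f349140df42f344136d0010b8f3200000c407658c8dd6629759611b652175908206e9f758e5900000620040db2ae310a38c308d30803ed404cafd638c0cb800003101d75c236d7aa5b5e2275920d85da0799e7db5c95c000018800f334ab4b628d2d49b8c124d2d012eb258d2cc2c00000c400758a699582a655e1175718655801c5f01595795000006203aaa446c2a54b0a844c29d0b6ba40c298fb0a50a0000031001b5b9a5d44a975099655a0d5500069620544f44c00001885cb2716ac9b0a9a582289a3ab260e2c9700caa82200000c40061466954a2a552665549185d3e5d54881452110000006217288e5aa2342a0893cb2641a28c38a22802e9d68000003103134386490c0164a844102c1342094d062134133c00001881891fc5a6851491f821e7a6091f44a47c1091ee1a00000c42e44f0b513b8534e67913b1d511608e3a80551e8d000006208a0710c79c002888009a0019a6c5e81b86a06d))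
 (Tr.leaf (nat_lit 0x7b00000310337c38bdf0c2b7c284db02c37c209df06237c12d4000018823b5fc86d7e1fb5f406f8007ade97ed7c1bb5ece800000c416d6f0575bb94d6ec4f5ba80daf20b4b9acd6e833000006215e97135a5c15696f33a5b8c696d01adc80e76cd8800003101f1b223ced4172b4a2cece873b320ceca034b5ebc00001880f7d7036162539da11656043957d0655e3f95765e00000c400cec6b71ad05beaa7b1ac9dc6b0731ab9bc6adad000006203db4e4795854e1534585490e151418540fe14f))))

end Cfsg.Agent.Lib.Y532.D.E7_T0
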