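import Cfsg.Agent.Lib.Y532.D.S1_Tab
import Cfsg.Agent.Lib.Y532.D.S1_C0
import Cfsg.Agent.Lib.Y532.D.S1_C1
import Cfsg.Agent.Lib.Y532.D.S1_C2
import Cfsg.Agent.Lib.Y532.D.S1_C3
import Cfsg.Agent.Lib.Y532.D.S1_C4
import Cfsg.Agent.Lib.Y532.D.S1_C5
import Cfsg.Agent.Lib.Y532.D.S1_C6
import Cfsg.Agent.Lib.Y532.D.S1_C7
import Cfsg.Agent.Lib.Y532.D.S1_C8
import Cfsg.Agent.Lib.Y532.D.S1_C9
import Cfsg.Agent.Lib.Y532.D.S1_C10
import Cfsg.Agent.Lib.Y532.D.S1_C11
import Cfsg.Agent.Lib.Y532.D.S1_C12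
import Cfsg.Agent.Lib.Y532.D.S1_C13
import Cfsg.Agent.Lib.Y532.D.S1_C14
import Cfsg.Agent.Lib.Y532.D.S1_C15
import Cfsg.Agent.Lib.Y532.D.S1_C16
import Cfsg.Agent.Lib.Y532.D.S1_C17
import Cfsg.Agent.Lib.Y532.D.S1_C18
import Cfsg.Agent.Lib.Y532.D.S1_C19
import Cfsg.Agent.Lib.Y532.D.S1_C20
import Cfsg.Agent.Lib.Y532.D.S1_C21
import Cfsg.Agent.Lib.Y532.D.S1_C22
import Cfsg.Agent.Lib.Y532.D.S1_C23
import Cfsg.Agent.Lib.Y532.D.S1_C24
import Cfsg.Agent.Lib.Y532.D.S1_C25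
import Cfsg.Agent.Lib.Y532.D.S1_C26
import Cfsg.Agent.Lib.Y532.D.S1_C27
import Cfsg.Agent.Lib.Y532.D.S1_C28
import Cfsg.Agent.Lib.Y532.D.S1_C29
import Cfsg.Agent.Lib.Y532.D.S1_C30
import Cfsg.Agent.Lib.Y532.D.S1_C31
import Cfsg.Agent.Lib.Y532.D.S1_C32
import Cfsg.Agent.Lib.Y532.D.S1_C33
import Cfsg.Agent.Lib.Y532.D.S1_C34
import Cfsg.Agent.Lib.Y532.D.S1_C35
import Cfsg.Agent.Lib.Y532.D.S1_C36
import Cfsg.Agent.Lib.Y532.D.S1_C37
import Cfsg.Agent.Lib.Y532.D.S1_C38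

namespace Cfsg.Agent.Lib.Y532.D.S1

open Cfsg.Agent.Lib.TC.Core Cfsg.Agent.Lib.TC.Enc Cfsg.Agent.Lib.TC.Pres Cfsg.Agent.Lib.TC.Perm Cfsg.Agent.Lib.TC.Main Cfsg.Agent.Lib.TC.Chain

set_option maxRecDepth 100000

open Cfsg.Agent.Lib.Y532.D.S1_Tab Cfsg.Agent.Lib.Y532.G

theorem allC0 : cert.chkRange 0 1226 = true := Cfsg.Agent.Lib.Y532.D.S1_C0.ok
theorem allC1 : cert.chkRange 0 2609 = true := Cert.chkRange_join (lo := 0) (a := 1226) (b := 1383) _ allC0 Cfsg.Agent.Lib.Y532.D.S1_C1.ok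
theorem allC2 : cert.chkRange 0 4046 = true := Cert.chkRange_join (lo := 0) (a := 2609) (b := 1437) _ allC1 Cfsg.Agent.Lib.Y532.D.S1_C2.ok
theorem allC3 : cert.chkRange 0 5596 = true := Cert.chkRange_join (lo := 0) (a := 4046) (b := 1550) _ allC2 Cfsg.Agent.Lib.Y532.D.S1_C3.ok
theorem allC4 : cert.chkRange 0 7307 = true := Cert.chkRange_join (lo := 0) (a := 5596) (b := 1711) _ allC3 Cfsg.Agent.Lib.Y532.D.S1_C4.ok
theorem allC5 : cert.chkRange 0 9094 = true := Cert.chkRange_join (lo := 0) (a := 7307) (b := 1787) _ allC4 Cfsg.Agent.Lib.Y532.D.S1_C5.ok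
theorem allC6 : cert.chkRange 0 10735 = true := Cert.chkRange_join (lo := 0) (a := 9094) (b := 1641) _ allC5 Cfsg.Agent.Lib.Y532.D.S1_C6.ok
theorem allC7 : cert.chkRange 0 12733 = true := Cert.chkRange_join (lo := 0) (a := 10735) (b := 1998) _ allC6 Cfsg.Agent.Lib.Y532.D.S1_C7.ok
theorem allC8 : cert.chkRange 0 14392 = true := Cert.chkRange_join (lo := 0) (a := 12733) (b := 1659) _ allC7 Cfsg.Agent.Lib.Y532.D.S1_C8.ok
theorem allC9 : cert.chkRange 0 16486 = true := Cert.chkRange_join (lo := 0) (a := 14392) (b := 2094) _ allC8 Cfsg.Agent.Lib.Y532.D.S1_C9.ok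
theorem allC10 : cert.chkRange 0 18290 = true := Cert.chkRange_join (lo := 0) (a := 16486) (b := 1804) _ allC9 Cfsg.Agent.Lib.Y532.D.S1_C10.ok
theorem allC11 : cert.chkRange 0 20098 = true := Cert.chkRange_join (lo := 0) (a := 18290) (b := 1808) _ allC10 Cfsg.Agent.Lib.Y532.D.S1_C11.ok
theorem allC12 : cert.chkRange 0 22300 = true := Cert.chkRange_join (lo := 0) (a := 20098) (b := 2202) _ allC11 Cfsg.Agent.Lib.Y532.D.S1_C12.ok
theorem allC13 : cert.chkRange 0 24022 = true := Cert.chkRange_join (lo := 0) (a := 22300) (b := 1722) _ allC12 Cfsg.Agent.Lib.Y532.D.S1_C13.ok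
theorem allC14 : cert.chkRange 0 25830 = true := Cert.chkRange_join (lo := 0) (a := 24022) (b := 1808) _ allC13 Cfsg.Agent.Lib.Y532.D.S1_C14.ok
theorem allC15 : cert.chkRange 0 28141 = true := Cert.chkRange_join (lo := 0) (a := 25830) (b := 2311) _ allC14 Cfsg.Agent.Lib.Y532.D.S1_C15.ok
theorem allC16 : cert.chkRange 0 30074 = true := Cert.chkRange_join (lo := 0) (a := 28141) (b := 1933) _ allC15 Cfsg.Agent.Lib.Y532.D.S1_C16.ok
theorem allC17 : cert.chkRange 0 31789 = true := Cert.chkRange_join (lo := 0) (a := 30074) (b := 1715) _ allC16 Cfsg.Agent.Lib.Y532.D.S1_C17.ok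
theorem allC18 : cert.chkRange 0 34266 = true := Cert.chkRange_join (lo := 0) (a := 31789) (b := 2477) _ allC17 Cfsg.Agent.Lib.Y532.D.S1_C18.ok
theorem allC19 : cert.chkRange 0 36474 = true := Cert.chkRange_join (lo := 0) (a := 34266) (b := 2208) _ allC18 Cfsg.Agent.Lib.Y532.D.S1_C19.ok
theorem allC20 : cert.chkRange 0 38285 = true := Cert.chkRange_join (lo := 0) (a := 36474) (b := 1811) _ allC19 Cfsg.Agent.Lib.Y532.D.S1_C20.ok
theorem allC21 : cert.chkRange 0 40203 = true := Cert.chkRange_join (lo := 0) (a := 38285) (b := 1918) _ allC20 Cfsg.Agent.Lib.Y532.D.S1_C21.ok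
theorem allC22 : cert.chkRange 0 42813 = true := Cert.chkRange_join (lo := 0) (a := 40203) (b := 2610) _ allC21 Cfsg.Agent.Lib.Y532.D.S1_C22.ok
theorem allC23 : cert.chkRange 0 45125 = true := Cert.chkRange_join (lo := 0) (a := 42813) (b := 2312) _ allC22 Cfsg.Agent.Lib.Y532.D.S1_C23.ok
theorem allC24 : cert.chkRange 0 47075 = true := Cert.chkRange_join (lo := 0) (a := 45125) (b := 1950) _ allC23 Cfsg.Agent.Lib.Y532.D.S1_C24.ok
theorem allC25 : cert.chkRange 0 49162 = true := Cert.chkRange_join (lo := 0) (a := 47075) (b := 2087) _ allC24 Cfsg.Agent.Lib.Y532.D.S1_C25.ok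
theorem allC26 : cert.chkRange 0 52817 = true := Cert.chkRange_join (lo := 0) (a := 49162) (b := 3655) _ allC25 Cfsg.Agent.Lib.Y532.D.S1_C26.ok
theorem allC27 : cert.chkRange 0 55294 = true := Cert.chkRange_join (lo := 0) (a := 52817) (b := 2477) _ allC26 Cfsg.Agent.Lib.Y532.D.S1_C27.ok
theorem allC28 : cert.chkRange 0 57937 = true := Cert.chkRange_join (lo := 0) (a := 55294) (b := 2643) _ allC27 Cfsg.Agent.Lib.Y532.D.S1_C28.ok
theorem allC29 : cert.chkRange 0 59181 = true := Cert.chkRange_join (lo := 0) (a := 57937) (b := 1244) _ allC28 Cfsg.Agent.Lib.Y532.D.S1_C29.ok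
theorem allC30 : cert.chkRange 0 60408 = true := Cert.chkRange_join (lo := 0) (a := 59181) (b := 1227) _ allC29 Cfsg.Agent.Lib.Y532.D.S1_C30.ok
theorem allC31 : cert.chkRange 0 61645 = true := Cert.chkRange_join (lo := 0) (a := 60408) (b := 1237) _ allC30 Cfsg.Agent.Lib.Y532.D.S1_C31.ok
theorem allC32 : cert.chkRange 0 62883 = true := Cert.chkRange_join (lo := 0) (a := 61645) (b := 1238) _ allC31 Cfsg.Agent.Lib.Y532.D.S1_C32.ok
theorem allC33 : cert.chkRange 0 64121 = true := Cert.chkRange_join (lo := 0) (a := 62883) (b := 1238) _ allC32 Cfsg.Agent.Lib.Y532.D.S1_C33.ok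
theorem allC34 : cert.chkRange 0 65357 = true := Cert.chkRange_join (lo := 0) (a := 64121) (b := 1236) _ allC33 Cfsg.Agent.Lib.Y532.D.S1_C34.ok
theorem allC35 : cert.chkRange 0 66597 = true := Cert.chkRange_join (lo := 0) (a := 65357) (b := 1240) _ allC34 Cfsg.Agent.Lib.Y532.D.S1_C35.ok
theorem allC36 : cert.chkRange 0 67842 = true := Cert.chkRange_join (lo := 0) (a := 66597) (b := 1245) _ allC35 Cfsg.Agent.Lib.Y532.D.S1_C36.ok
theorem allC37 : cert.chkRange 0 69091 = true := Cert.chkRange_join (lo := 0) (a := 67842) (b := 1249) _ allC36 Cfsg.Agent.Lib.Y532.D.S1_C37.ok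
theorem allC38 : cert.chkRange 0 69537 = true := Cert.chkRange_join (lo := 0) (a := 69091) (b := 446) _ allC37 Cfsg.Agent.Lib.Y532.D.S1_C38.ok

theorem hFinal : cert.chkFinal 0 69537 = true := by decide +kernel

theorem h0 : cert.eLvl (cert.par (cert.find cert.MAX cert.D 0)) = cert.MAX := by decide +kernel

theorem hcount : cert.countRoots cert.N = 31671 := by
  rw [countRoots_eq_acc]
  decide +kernel

theorem hchecked : Checked cert where
  hN := by decide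
  hC := allC38
  hF := hFinal
  h0 := h0

theorem stage : Lt (K.E Rel) ls' ≤ Lt (K.E Rel) ls ∧
    Nat.card (Lt (K.E Rel) ls) = Nat.card (Lt (K.E Rel) ls') * (Lt (K.E Rel) ls').relIndex (Lt (K.E Rel) ls) ∧
    (Lt (K.E Rel) ls').relIndex (Lt (K.E Rel) ls) ≠ 0 ∧ (Lt (K.E Rel) ls').relIndex (Lt (K.E Rel) ls) ≤ 31671 :=
  stage_of_cols valid hrels ls ls' inv' rels' subs' witT.get cert 31671
    (by decide +kernel) (by decide) (by decide +kernel) (by decide +kernel) (by decide +kernel) hchecked hcount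

end Cfsg.Agent.Lib.Y532.D.S1
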