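import Cfsg.Agent.Lib.Y532.D.S2_Tab
import Cfsg.Agent.Lib.Y532.D.S2_C0
import Cfsg.Agent.Lib.Y532.D.S2_C1
import Cfsg.Agent.Lib.Y532.D.S2_C2
import Cfsg.Agent.Lib.Y532.D.S2_C3
import Cfsg.Agent.Lib.Y532.D.S2_C4
import Cfsg.Agent.Lib.Y532.D.S2_C5
import Cfsg.Agent.Lib.Y532.D.S2_C6
import Cfsg.Agent.Lib.Y532.D.S2_C7
import Cfsg.Agent.Lib.Y532.D.S2_C8
import Cfsg.Agent.Lib.Y532.D.S2_C9
import Cfsg.Agent.Lib.Y532.D.S2_C10
import Cfsg.Agent.Lib.Y532.D.S2_C11
import Cfsg.Agent.Lib.Y532.D.S2_C12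
import Cfsg.Agent.Lib.Y532.D.S2_C13
import Cfsg.Agent.Lib.Y532.D.S2_C14
import Cfsg.Agent.Lib.Y532.D.S2_C15
import Cfsg.Agent.Lib.Y532.D.S2_C16
import Cfsg.Agent.Lib.Y532.D.S2_C17
import Cfsg.Agent.Lib.Y532.D.S2_C18
import Cfsg.Agent.Lib.Y532.D.S2_C19
import Cfsg.Agent.Lib.Y532.D.S2_C20
import Cfsg.Agent.Lib.Y532.D.S2_C21
import Cfsg.Agent.Lib.Y532.D.S2_C22
import Cfsg.Agent.Lib.Y532.D.S2_C23
import Cfsg.Agent.Lib.Y532.D.S2_C24
import Cfsg.Agent.Lib.Y532.D.S2_C25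
import Cfsg.Agent.Lib.Y532.D.S2_C26

namespace Cfsg.Agent.Lib.Y532.D.S2

open Cfsg.Agent.Lib.TC.Core Cfsg.Agent.Lib.TC.Enc Cfsg.Agent.Lib.TC.Pres Cfsg.Agent.Lib.TC.Perm Cfsg.Agent.Lib.TC.Main Cfsg.Agent.Lib.TC.Chain

set_option maxRecDepth 100000

open Cfsg.Agent.Lib.Y532.D.S2_Tab Cfsg.Agent.Lib.Y532.G

theorem allC0 : cert.chkRange 0 1400 = true := Cfsg.Agent.Lib.Y532.D.S2_C0.ok
theorem allC1 : cert.chkRange 0 3001 = true := Cert.chkRange_join (lo := 0) (a := 1400) (b := 1601) _ allC0 Cfsg.Agent.Lib.Y532.D.S2_C1.ok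
theorem allC2 : cert.chkRange 0 4699 = true := Cert.chkRange_join (lo := 0) (a := 3001) (b := 1698) _ allC1 Cfsg.Agent.Lib.Y532.D.S2_C2.ok
theorem allC3 : cert.chkRange 0 6452 = true := Cert.chkRange_join (lo := 0) (a := 4699) (b := 1753) _ allC2 Cfsg.Agent.Lib.Y532.D.S2_C3.ok
theorem allC4 : cert.chkRange 0 8329 = true := Cert.chkRange_join (lo := 0) (a := 6452) (b := 1877) _ allC3 Cfsg.Agent.Lib.Y532.D.S2_C4.ok
theorem allC5 : cert.chkRange 0 10291 = true := Cert.chkRange_join (lo := 0) (a := 8329) (b := 1962) _ allC4 Cfsg.Agent.Lib.Y532.D.S2_C5.ok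
theorem allC6 : cert.chkRange 0 12251 = true := Cert.chkRange_join (lo := 0) (a := 10291) (b := 1960) _ allC5 Cfsg.Agent.Lib.Y532.D.S2_C6.ok
theorem allC7 : cert.chkRange 0 14074 = true := Cert.chkRange_join (lo := 0) (a := 12251) (b := 1823) _ allC6 Cfsg.Agent.Lib.Y532.D.S2_C7.ok
theorem allC8 : cert.chkRange 0 16271 = true := Cert.chkRange_join (lo := 0) (a := 14074) (b := 2197) _ allC7 Cfsg.Agent.Lib.Y532.D.S2_C8.ok
theorem allC9 : cert.chkRange 0 18023 = true := Cert.chkRange_join (lo := 0) (a := 16271) (b := 1752) _ allC8 Cfsg.Agent.Lib.Y532.D.S2_C9.ok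
theorem allC10 : cert.chkRange 0 20303 = true := Cert.chkRange_join (lo := 0) (a := 18023) (b := 2280) _ allC9 Cfsg.Agent.Lib.Y532.D.S2_C10.ok
theorem allC11 : cert.chkRange 0 22188 = true := Cert.chkRange_join (lo := 0) (a := 20303) (b := 1885) _ allC10 Cfsg.Agent.Lib.Y532.D.S2_C11.ok
theorem allC12 : cert.chkRange 0 24079 = true := Cert.chkRange_join (lo := 0) (a := 22188) (b := 1891) _ allC11 Cfsg.Agent.Lib.Y532.D.S2_C12.ok
theorem allC13 : cert.chkRange 0 26331 = true := Cert.chkRange_join (lo := 0) (a := 24079) (b := 2252) _ allC12 Cfsg.Agent.Lib.Y532.D.S2_C13.ok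
theorem allC14 : cert.chkRange 0 28383 = true := Cert.chkRange_join (lo := 0) (a := 26331) (b := 2052) _ allC13 Cfsg.Agent.Lib.Y532.D.S2_C14.ok
theorem allC15 : cert.chkRange 0 30905 = true := Cert.chkRange_join (lo := 0) (a := 28383) (b := 2522) _ allC14 Cfsg.Agent.Lib.Y532.D.S2_C15.ok
theorem allC16 : cert.chkRange 0 33378 = true := Cert.chkRange_join (lo := 0) (a := 30905) (b := 2473) _ allC15 Cfsg.Agent.Lib.Y532.D.S2_C16.ok
theorem allC17 : cert.chkRange 0 35693 = true := Cert.chkRange_join (lo := 0) (a := 33378) (b := 2315) _ allC16 Cfsg.Agent.Lib.Y532.D.S2_C17.ok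
theorem allC18 : cert.chkRange 0 37050 = true := Cert.chkRange_join (lo := 0) (a := 35693) (b := 1357) _ allC17 Cfsg.Agent.Lib.Y532.D.S2_C18.ok
theorem allC19 : cert.chkRange 0 38428 = true := Cert.chkRange_join (lo := 0) (a := 37050) (b := 1378) _ allC18 Cfsg.Agent.Lib.Y532.D.S2_C19.ok
theorem allC20 : cert.chkRange 0 39804 = true := Cert.chkRange_join (lo := 0) (a := 38428) (b := 1376) _ allC19 Cfsg.Agent.Lib.Y532.D.S2_C20.ok
theorem allC21 : cert.chkRange 0 41172 = true := Cert.chkRange_join (lo := 0) (a := 39804) (b := 1368) _ allC20 Cfsg.Agent.Lib.Y532.D.S2_C21.ok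
theorem allC22 : cert.chkRange 0 42542 = true := Cert.chkRange_join (lo := 0) (a := 41172) (b := 1370) _ allC21 Cfsg.Agent.Lib.Y532.D.S2_C22.ok
theorem allC23 : cert.chkRange 0 43932 = true := Cert.chkRange_join (lo := 0) (a := 42542) (b := 1390) _ allC22 Cfsg.Agent.Lib.Y532.D.S2_C23.ok
theorem allC24 : cert.chkRange 0 45311 = true := Cert.chkRange_join (lo := 0) (a := 43932) (b := 1379) _ allC23 Cfsg.Agent.Lib.Y532.D.S2_C24.ok
theorem allC25 : cert.chkRange 0 46685 = true := Cert.chkRange_join (lo := 0) (a := 45311) (b := 1374) _ allC24 Cfsg.Agent.Lib.Y532.D.S2_C25.ok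
theorem allC26 : cert.chkRange 0 47757 = true := Cert.chkRange_join (lo := 0) (a := 46685) (b := 1072) _ allC25 Cfsg.Agent.Lib.Y532.D.S2_C26.ok

theorem hFinal : cert.chkFinal 0 47757 = true := by decide +kernel

theorem h0 : cert.eLvl (cert.par (cert.find cert.MAX cert.D 0)) = cert.MAX := by decide +kernel

theorem hcount : cert.countRoots cert.N = 28160 := by
  rw [countRoots_eq_acc]
  decide +kernel

theorem hchecked : Checked cert where
  hN := by decide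
  hC := allC26
  hF := hFinal
  h0 := h0

theorem stage : Lt (K.E Rel) ls' ≤ Lt (K.E Rel) ls ∧
    Nat.card (Lt (K.E Rel) ls) = Nat.card (Lt (K.E Rel) ls') * (Lt (K.E Rel) ls').relIndex (Lt (K.E Rel) ls) ∧
    (Lt (K.E Rel) ls').relIndex (Lt (K.E Rel) ls) ≠ 0 ∧ (Lt (K.E Rel) ls').relIndex (Lt (K.E Rel) ls) ≤ 28160 :=
  stage_of_cols valid hrels ls ls' inv' rels' subs' witT.get cert 28160
    (by decide +kernel) (by decide) (by decide +kernel) (by decide +kernel) (by decide +kernel) hchecked hcount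

end Cfsg.Agent.Lib.Y532.D.S2
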