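import Cfsg.Agent.Lib.Y532.G
import Cfsg.Agent.Lib.TC.Chain
import Cfsg.Agent.Lib.Y532.D.S3_T0

namespace Cfsg.Agent.Lib.Y532.D.S3_Tab

open Cfsg.Agent.Lib.TC.Core Cfsg.Agent.Lib.TC.Enc Cfsg.Agent.Lib.TC.Pres Cfsg.Agent.Lib.TC.Perm Cfsg.Agent.Lib.TC.Main Cfsg.Agent.Lib.TC.Chain

set_option maxRecDepth 100000

/-- The chunks of the certificate. -/
noncomputable def ctree : Tr Nat := Cfsg.Agent.Lib.Y532.D.S3_T0.tree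

/-- The relator rotations. -/
noncomputable def rotT : Tr (List Nat) := (Tr.node (Tr.node (Tr.node (Tr.node (Tr.node (Tr.node (Tr.node (Tr.leaf [])
 (Tr.leaf [0,5,0,5]))
 (Tr.node (Tr.leaf [1,2,1,2,1,2])
 (Tr.leaf [])))
 (Tr.node (Tr.node (Tr.leaf [2,6,2,6])
 (Tr.leaf []))
 (Tr.node (Tr.leaf [3,4,3,4])
 (Tr.leaf []))))
 (Tr.node (Tr.node (Tr.node (Tr.leaf [7,7])
 (Tr.leaf [6,7,0,1,2,0,4,5,0,6,7,0,1,2,0,4,5,0,6,7,0,1,2,0,4,5,0,6,7,0,1,2,0,4,5,0,6,7,0,1,2,0,4,5,0,6,7,0,1,2,0,4,5,0,6,7,0,1,2,0,4,5,0,6,7,0,1,2,0,4,5,0,6,7,0,1,2,0,4,5,0,6,7,0,1,2,0,4,5,0]))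
 (Tr.node (Tr.leaf [4,5,4,5,4,5])
 (Tr.leaf [])))
 (Tr.node (Tr.node (Tr.leaf [6,0,6,0,6,0])
 (Tr.leaf []))
 (Tr.node (Tr.leaf [2,3,2,3,2,3])
 (Tr.leaf [])))))
 (Tr.node (Tr.node (Tr.node (Tr.node (Tr.leaf [3,3])
 (Tr.leaf [0,4,5,0,6,7,0,1,2,0,4,5,0,6,7,0,1,2,0,4,5,0,6,7,0,1,2,0,4,5,0,6,7,0,1,2,0,4,5,0,6,7,0,1,2,0,4,5,0,6,7,0,1,2,0,4,5,0,6,7,0,1,2,0,4,5,0,6,7,0,1,2,0,4,5,0,6,7,0,1,2,0,4,5,0,6,7,0,1,2]))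
 (Tr.node (Tr.leaf [1,4,1,4])
 (Tr.leaf [])))
 (Tr.node (Tr.node (Tr.leaf [7,6,7,6,7,6])
 (Tr.leaf []))
 (Tr.node (Tr.leaf [3,5,3,5])
 (Tr.leaf []))))
 (Tr.node (Tr.node (Tr.node (Tr.leaf [3,7,3,7])
 (Tr.leaf []))
 (Tr.node (Tr.leaf [6,7,6,7,6,7])
 (Tr.leaf [])))
 (Tr.node (Tr.node (Tr.leaf [5,1,5,1])
 (Tr.leaf []))
 (Tr.node (Tr.leaf [4,3,4,3])
 (Tr.leaf []))))))
 (Tr.node (Tr.node (Tr.node (Tr.node (Tr.node (Tr.leaf [1,1])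
 (Tr.leaf [0,7,6,0,5,4,0,2,1,0,7,6,0,5,4,0,2,1,0,7,6,0,5,4,0,2,1,0,7,6,0,5,4,0,2,1,0,7,6,0,5,4,0,2,1,0,7,6,0,5,4,0,2,1,0,7,6,0,5,4,0,2,1,0,7,6,0,5,4,0,2,1,0,7,6,0,5,4,0,2,1,0,7,6,0,5,4,0,2,1]))
 (Tr.node (Tr.leaf [6,2,6,2])
 (Tr.leaf [])))
 (Tr.node (Tr.node (Tr.leaf [4,6,4,6])
 (Tr.leaf []))
 (Tr.node (Tr.leaf [4,0,4,0,4,0])
 (Tr.leaf []))))
 (Tr.node (Tr.node (Tr.node (Tr.leaf [1,7,1,7])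
 (Tr.leaf [7,6,0,5,4,0,2,1,0,7,6,0,5,4,0,2,1,0,7,6,0,5,4,0,2,1,0,7,6,0,5,4,0,2,1,0,7,6,0,5,4,0,2,1,0,7,6,0,5,4,0,2,1,0,7,6,0,5,4,0,2,1,0,7,6,0,5,4,0,2,1,0,7,6,0,5,4,0,2,1,0,7,6,0,5,4,0,2,1,0]))
 (Tr.node (Tr.leaf [7,5,7,5])
 (Tr.leaf [])))
 (Tr.node (Tr.node (Tr.leaf [0,1,0,1,0,1])
 (Tr.leaf []))
 (Tr.node (Tr.leaf [6,3,6,3])
 (Tr.leaf [])))))
 (Tr.node (Tr.node (Tr.node (Tr.node (Tr.leaf [5,5])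
 (Tr.leaf [0,6,7,0,1,2,0,4,5,0,6,7,0,1,2,0,4,5,0,6,7,0,1,2,0,4,5,0,6,7,0,1,2,0,4,5,0,6,7,0,1,2,0,4,5,0,6,7,0,1,2,0,4,5,0,6,7,0,1,2,0,4,5,0,6,7,0,1,2,0,4,5,0,6,7,0,1,2,0,4,5,0,6,7,0,1,2,0,4,5]))
 (Tr.node (Tr.leaf [7,4,7,4])
 (Tr.leaf [])))
 (Tr.node (Tr.node (Tr.leaf [3,0,3,0])
 (Tr.leaf []))
 (Tr.node (Tr.leaf [0,3,0,3])
 (Tr.leaf []))))
 (Tr.node (Tr.node (Tr.node (Tr.leaf [5,7,5,7])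
 (Tr.leaf []))
 (Tr.node (Tr.leaf [0,4,0,4,0,4])
 (Tr.leaf [])))
 (Tr.node (Tr.node (Tr.leaf [7,1,7,1])
 (Tr.leaf []))
 (Tr.node (Tr.leaf [2,1,2,1,2,1])
 (Tr.leaf [])))))))
 (Tr.node (Tr.node (Tr.node (Tr.node (Tr.node (Tr.node (Tr.leaf [0,0])
 (Tr.leaf [3,2,3,2,3,2]))
 (Tr.node (Tr.leaf [5,2,5,2])
 (Tr.leaf [])))
 (Tr.node (Tr.node (Tr.leaf [3,6,3,6])
 (Tr.leaf []))
 (Tr.node (Tr.leaf [4,1,4,1])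
 (Tr.leaf []))))
 (Tr.node (Tr.node (Tr.node (Tr.leaf [0,7,0,7])
 (Tr.leaf [1,0,7,6,0,5,4,0,2,1,0,7,6,0,5,4,0,2,1,0,7,6,0,5,4,0,2,1,0,7,6,0,5,4,0,2,1,0,7,6,0,5,4,0,2,1,0,7,6,0,5,4,0,2,1,0,7,6,0,5,4,0,2,1,0,7,6,0,5,4,0,2,1,0,7,6,0,5,4,0,2,1,0,7,6,0,5,4,0,2]))
 (Tr.node (Tr.leaf [6,5,6,5])
 (Tr.leaf [])))
 (Tr.node (Tr.node (Tr.leaf [7,0,7,0])
 (Tr.leaf []))
 (Tr.node (Tr.leaf [5,3,5,3])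
 (Tr.leaf [])))))
 (Tr.node (Tr.node (Tr.node (Tr.node (Tr.leaf [4,4])
 (Tr.leaf [2,1,0,7,6,0,5,4,0,2,1,0,7,6,0,5,4,0,2,1,0,7,6,0,5,4,0,2,1,0,7,6,0,5,4,0,2,1,0,7,6,0,5,4,0,2,1,0,7,6,0,5,4,0,2,1,0,7,6,0,5,4,0,2,1,0,7,6,0,5,4,0,2,1,0,7,6,0,5,4,0,2,1,0,7,6,0,5,4,0]))
 (Tr.node (Tr.leaf [6,4,6,4])
 (Tr.leaf [])))
 (Tr.node (Tr.node (Tr.leaf [2,0,2,0])
 (Tr.leaf []))
 (Tr.node (Tr.leaf [5,4,5,4,5,4])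
 (Tr.leaf []))))
 (Tr.node (Tr.node (Tr.node (Tr.leaf [4,7,4,7])
 (Tr.leaf []))
 (Tr.node (Tr.leaf [4,0,2,1,0,7,6,0,5,4,0,2,1,0,7,6,0,5,4,0,2,1,0,7,6,0,5,4,0,2,1,0,7,6,0,5,4,0,2,1,0,7,6,0,5,4,0,2,1,0,7,6,0,5,4,0,2,1,0,7,6,0,5,4,0,2,1,0,7,6,0,5,4,0,2,1,0,7,6,0,5,4,0,2,1,0,7,6,0,5])
 (Tr.leaf [])))
 (Tr.node (Tr.node (Tr.leaf [6,1,6,1])
 (Tr.leaf []))
 (Tr.node (Tr.leaf [4,2,4,2])
 (Tr.leaf []))))))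
 (Tr.node (Tr.node (Tr.node (Tr.node (Tr.node (Tr.leaf [2,2])
 (Tr.leaf [0,2,1,0,7,6,0,5,4,0,2,1,0,7,6,0,5,4,0,2,1,0,7,6,0,5,4,0,2,1,0,7,6,0,5,4,0,2,1,0,7,6,0,5,4,0,2,1,0,7,6,0,5,4,0,2,1,0,7,6,0,5,4,0,2,1,0,7,6,0,5,4,0,2,1,0,7,6,0,5,4,0,2,1,0,7,6,0,5,4]))
 (Tr.node (Tr.leaf [7,2,7,2])
 (Tr.leaf [])))
 (Tr.node (Tr.node (Tr.leaf [5,6,5,6])
 (Tr.leaf []))
 (Tr.node (Tr.leaf [1,0,1,0,1,0])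
 (Tr.leaf []))))
 (Tr.node (Tr.node (Tr.node (Tr.leaf [2,7,2,7])
 (Tr.leaf []))
 (Tr.node (Tr.leaf [0,6,0,6,0,6])
 (Tr.leaf [])))
 (Tr.node (Tr.node (Tr.leaf [3,1,3,1])
 (Tr.leaf []))
 (Tr.node (Tr.leaf [7,3,7,3])
 (Tr.leaf [])))))
 (Tr.node (Tr.node (Tr.node (Tr.node (Tr.leaf [6,6])
 (Tr.leaf [6,0,5,4,0,2,1,0,7,6,0,5,4,0,2,1,0,7,6,0,5,4,0,2,1,0,7,6,0,5,4,0,2,1,0,7,6,0,5,4,0,2,1,0,7,6,0,5,4,0,2,1,0,7,6,0,5,4,0,2,1,0,7,6,0,5,4,0,2,1,0,7,6,0,5,4,0,2,1,0,7,6,0,5,4,0,2,1,0,7]))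
 (Tr.node (Tr.leaf [1,5,1,5])
 (Tr.leaf [])))
 (Tr.node (Tr.node (Tr.leaf [5,0,5,0])
 (Tr.leaf []))
 (Tr.node (Tr.leaf [1,3,1,3])
 (Tr.leaf []))))
 (Tr.node (Tr.node (Tr.node (Tr.leaf [1,6,1,6])
 (Tr.leaf []))
 (Tr.node (Tr.leaf [2,4,2,4])
 (Tr.leaf [])))
 (Tr.node (Tr.node (Tr.leaf [0,2,0,2])
 (Tr.leaf []))
 (Tr.node (Tr.leaf [2,5,2,5])
 (Tr.leaf []))))))))

/-- The subgroup rotations. -/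
noncomputable def srotT : Tr (List Nat × Nat × List Nat) := (Tr.node (Tr.node (Tr.node (Tr.leaf ([],0,[]))
 (Tr.leaf ([],4,[])))
 (Tr.node (Tr.leaf ([],2,[]))
 (Tr.leaf ([],6,[]))))
 (Tr.node (Tr.node (Tr.leaf ([],1,[]))
 (Tr.leaf ([],5,[])))
 (Tr.node (Tr.leaf ([],3,[]))
 (Tr.leaf ([],0,[])))))

/-- The certificate. -/
noncomputable def cert : Cert :=
  mkCert 8 4622 31557 6 75 82 4 15 402 41 328 386 2199023255551 288230376151711743 15 13 32767 8191 28 26 7 ctree.get rotT.get srotT.get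

/-- The witnesses of the rotations. -/
noncomputable def witT : Tr (Nat × Nat × Bool) := (Tr.node (Tr.node (Tr.node (Tr.node (Tr.node (Tr.node (Tr.node (Tr.leaf (0,0,false))
 (Tr.leaf (15,1,false)))
 (Tr.node (Tr.leaf (4,1,false))
 (Tr.leaf (0,0,false))))
 (Tr.node (Tr.node (Tr.leaf (23,1,false))
 (Tr.leaf (0,0,false)))
 (Tr.node (Tr.leaf (13,1,false))
 (Tr.leaf (0,0,false)))))
 (Tr.node (Tr.node (Tr.node (Tr.leaf (35,0,false))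
 (Tr.leaf (36,7,true)))
 (Tr.node (Tr.leaf (19,1,false))
 (Tr.leaf (0,0,false))))
 (Tr.node (Tr.node (Tr.leaf (21,0,false))
 (Tr.leaf (0,0,false)))
 (Tr.node (Tr.leaf (8,1,false))
 (Tr.leaf (0,0,false))))))
 (Tr.node (Tr.node (Tr.node (Tr.node (Tr.leaf (9,0,false))
 (Tr.leaf (36,3,true)))
 (Tr.node (Tr.leaf (11,1,false))
 (Tr.leaf (0,0,false))))
 (Tr.node (Tr.node (Tr.leaf (34,0,false))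
 (Tr.leaf (0,0,false)))
 (Tr.node (Tr.leaf (18,1,false))
 (Tr.leaf (0,0,false)))))
 (Tr.node (Tr.node (Tr.node (Tr.leaf (31,1,false))
 (Tr.leaf (0,0,false)))
 (Tr.node (Tr.leaf (34,1,false))
 (Tr.leaf (0,0,false))))
 (Tr.node (Tr.node (Tr.leaf (16,0,false))
 (Tr.leaf (0,0,false)))
 (Tr.node (Tr.leaf (13,0,false))
 (Tr.leaf (0,0,false)))))))
 (Tr.node (Tr.node (Tr.node (Tr.node (Tr.node (Tr.leaf (2,0,false))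
 (Tr.leaf (36,8,false)))
 (Tr.node (Tr.leaf (23,0,false))
 (Tr.leaf (0,0,false))))
 (Tr.node (Tr.node (Tr.leaf (25,1,false))
 (Tr.leaf (0,0,false)))
 (Tr.node (Tr.leaf (10,0,false))
 (Tr.leaf (0,0,false)))))
 (Tr.node (Tr.node (Tr.node (Tr.leaf (29,1,false))
 (Tr.leaf (36,0,false)))
 (Tr.node (Tr.leaf (33,0,false))
 (Tr.leaf (0,0,false))))
 (Tr.node (Tr.node (Tr.leaf (1,1,false))
 (Tr.leaf (0,0,false)))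
 (Tr.node (Tr.leaf (24,0,false))
 (Tr.leaf (0,0,false))))))
 (Tr.node (Tr.node (Tr.node (Tr.node (Tr.leaf (20,0,false))
 (Tr.leaf (36,6,true)))
 (Tr.node (Tr.leaf (32,0,false))
 (Tr.leaf (0,0,false))))
 (Tr.node (Tr.node (Tr.leaf (6,0,false))
 (Tr.leaf (0,0,false)))
 (Tr.node (Tr.leaf (6,1,false))
 (Tr.leaf (0,0,false)))))
 (Tr.node (Tr.node (Tr.node (Tr.leaf (33,1,false))
 (Tr.leaf (0,0,false)))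
 (Tr.node (Tr.leaf (10,1,false))
 (Tr.leaf (0,0,false))))
 (Tr.node (Tr.node (Tr.leaf (29,0,false))
 (Tr.leaf (0,0,false)))
 (Tr.node (Tr.leaf (4,0,false))
 (Tr.leaf (0,0,false))))))))
 (Tr.node (Tr.node (Tr.node (Tr.node (Tr.node (Tr.node (Tr.leaf (0,0,false))
 (Tr.leaf (8,0,false)))
 (Tr.node (Tr.leaf (17,0,false))
 (Tr.leaf (0,0,false))))
 (Tr.node (Tr.node (Tr.leaf (24,1,false))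
 (Tr.leaf (0,0,false)))
 (Tr.node (Tr.leaf (11,0,false))
 (Tr.leaf (0,0,false)))))
 (Tr.node (Tr.node (Tr.node (Tr.leaf (28,1,false))
 (Tr.leaf (36,7,false)))
 (Tr.node (Tr.leaf (26,0,false))
 (Tr.leaf (0,0,false))))
 (Tr.node (Tr.node (Tr.leaf (28,0,false))
 (Tr.leaf (0,0,false)))
 (Tr.node (Tr.leaf (18,0,false))
 (Tr.leaf (0,0,false))))))
 (Tr.node (Tr.node (Tr.node (Tr.node (Tr.leaf (14,0,false))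
 (Tr.leaf (36,6,false)))
 (Tr.node (Tr.leaf (25,0,false))
 (Tr.leaf (0,0,false))))
 (Tr.node (Tr.node (Tr.leaf (3,0,false))
 (Tr.leaf (0,0,false)))
 (Tr.node (Tr.leaf (19,0,false))
 (Tr.leaf (0,0,false)))))
 (Tr.node (Tr.node (Tr.node (Tr.leaf (32,1,false))
 (Tr.leaf (0,0,false)))
 (Tr.node (Tr.leaf (36,4,false))
 (Tr.leaf (0,0,false))))
 (Tr.node (Tr.node (Tr.leaf (22,0,false))
 (Tr.leaf (0,0,false)))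
 (Tr.node (Tr.leaf (12,0,false))
 (Tr.leaf (0,0,false)))))))
 (Tr.node (Tr.node (Tr.node (Tr.node (Tr.node (Tr.leaf (5,0,false))
 (Tr.leaf (36,5,false)))
 (Tr.node (Tr.leaf (30,0,false))
 (Tr.leaf (0,0,false))))
 (Tr.node (Tr.node (Tr.leaf (26,1,false))
 (Tr.leaf (0,0,false)))
 (Tr.node (Tr.leaf (1,0,false))
 (Tr.leaf (0,0,false)))))
 (Tr.node (Tr.node (Tr.node (Tr.leaf (30,1,false))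
 (Tr.leaf (0,0,false)))
 (Tr.node (Tr.leaf (21,1,false))
 (Tr.leaf (0,0,false))))
 (Tr.node (Tr.node (Tr.leaf (7,0,false))
 (Tr.leaf (0,0,false)))
 (Tr.node (Tr.leaf (31,0,false))
 (Tr.leaf (0,0,false))))))
 (Tr.node (Tr.node (Tr.node (Tr.node (Tr.leaf (27,0,false))
 (Tr.leaf (36,1,false)))
 (Tr.node (Tr.leaf (16,1,false))
 (Tr.leaf (0,0,false))))
 (Tr.node (Tr.node (Tr.leaf (15,0,false))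
 (Tr.leaf (0,0,false)))
 (Tr.node (Tr.leaf (7,1,false))
 (Tr.leaf (0,0,false)))))
 (Tr.node (Tr.node (Tr.node (Tr.leaf (22,1,false))
 (Tr.leaf (0,0,false)))
 (Tr.node (Tr.leaf (12,1,false))
 (Tr.leaf (0,0,false))))
 (Tr.node (Tr.node (Tr.leaf (3,1,false))
 (Tr.leaf (0,0,false)))
 (Tr.node (Tr.leaf (17,1,false))
 (Tr.leaf (0,0,false)))))))))

/-- The letters. -/
def ls : List Nat := [0,1,2,3,6,7,9,10]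

/-- The smaller letters. -/
def ls' : List Nat := [0,1,2,3,6,7,9]

/-- The inverses. -/
def inv' (c : Nat) : Nat := [0,1,2,3,4,5,6,7].getD c 0

/-- The relators. -/
def rels' : List (List Nat) :=
  [[0,0],
   [1,0,1,0,1,0],
   [1,1],
   [2,0,2,0],
   [2,1,2,1,2,1],
   [2,2],
   [3,0,3,0],
   [3,1,3,1],
   [3,2,3,2,3,2],
   [3,3],
   [4,0,4,0,4,0],
   [4,1,4,1],
   [4,2,4,2],
   [4,3,4,3],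
   [4,4],
   [5,0,5,0],
   [5,1,5,1],
   [5,2,5,2],
   [5,3,5,3],
   [5,4,5,4,5,4],
   [5,5],
   [6,0,6,0,6,0],
   [6,1,6,1],
   [6,2,6,2],
   [6,3,6,3],
   [6,4,6,4],
   [6,5,6,5],
   [6,6],
   [7,0,7,0],
   [7,1,7,1],
   [7,2,7,2],
   [7,3,7,3],
   [7,4,7,4],
   [7,5,7,5],
   [7,6,7,6,7,6],
   [7,7],
   [7,6,0,5,4,0,2,1,0,7,6,0,5,4,0,2,1,0,7,6,0,5,4,0,2,1,0,7,6,0,5,4,0,2,1,0,7,6,0,5,4,0,2,1,0,7,6,0,5,4,0,2,1,0,7,6,0,5,4,0,2,1,0,7,6,0,5,4,0,2,1,0,7,6,0,5,4,0,2,1,0,7,6,0,5,4,0,2,1,0]]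

/-- The subgroup. -/
def subs' : List (List Nat) :=
  [[0],[1],[2],[3],[4],[5],[6]]

end Cfsg.Agent.Lib.Y532.D.S3_Tab
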