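import Cfsg.Agent.Lib.Y532.D.Top_Tab
import Cfsg.Agent.Lib.Y532.D.Top_C0
import Cfsg.Agent.Lib.Y532.D.Top_C1
import Cfsg.Agent.Lib.Y532.D.Top_C2
import Cfsg.Agent.Lib.Y532.D.Top_C3
import Cfsg.Agent.Lib.Y532.D.Top_C4
import Cfsg.Agent.Lib.Y532.D.Top_C5
import Cfsg.Agent.Lib.Y532.D.Top_C6
import Cfsg.Agent.Lib.Y532.D.Top_C7
import Cfsg.Agent.Lib.Y532.D.Top_C8
import Cfsg.Agent.Lib.Y532.D.Top_C9
import Cfsg.Agent.Lib.Y532.D.Top_C10
import Cfsg.Agent.Lib.Y532.D.Top_C11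
import Cfsg.Agent.Lib.Y532.D.Top_C12
import Cfsg.Agent.Lib.Y532.D.Top_C13

namespace Cfsg.Agent.Lib.Y532.D.Top

open Cfsg.Agent.Lib.TC.Core Cfsg.Agent.Lib.TC.Enc Cfsg.Agent.Lib.TC.Pres Cfsg.Agent.Lib.TC.Perm Cfsg.Agent.Lib.TC.Main Cfsg.Agent.Lib.TC.Chain

set_option maxRecDepth 100000

open Cfsg.Agent.Lib.Y532.D.Top_Tab Cfsg.Agent.Lib.Y532.G

theorem allC0 : cert.chkRange 0 1662 = true := Cfsg.Agent.Lib.Y532.D.Top_C0.ok
theorem allC1 : cert.chkRange 0 3531 = true := Cert.chkRange_join (lo := 0) (a := 1662) (b := 1869) _ allC0 Cfsg.Agent.Lib.Y532.D.Top_C1.ok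
theorem allC2 : cert.chkRange 0 5564 = true := Cert.chkRange_join (lo := 0) (a := 3531) (b := 2033) _ allC1 Cfsg.Agent.Lib.Y532.D.Top_C2.ok
theorem allC3 : cert.chkRange 0 7678 = true := Cert.chkRange_join (lo := 0) (a := 5564) (b := 2114) _ allC2 Cfsg.Agent.Lib.Y532.D.Top_C3.ok
theorem allC4 : cert.chkRange 0 9809 = true := Cert.chkRange_join (lo := 0) (a := 7678) (b := 2131) _ allC3 Cfsg.Agent.Lib.Y532.D.Top_C4.ok
theorem allC5 : cert.chkRange 0 11987 = true := Cert.chkRange_join (lo := 0) (a := 9809) (b := 2178) _ allC4 Cfsg.Agent.Lib.Y532.D.Top_C5.ok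
theorem allC6 : cert.chkRange 0 14442 = true := Cert.chkRange_join (lo := 0) (a := 11987) (b := 2455) _ allC5 Cfsg.Agent.Lib.Y532.D.Top_C6.ok
theorem allC7 : cert.chkRange 0 16890 = true := Cert.chkRange_join (lo := 0) (a := 14442) (b := 2448) _ allC6 Cfsg.Agent.Lib.Y532.D.Top_C7.ok
theorem allC8 : cert.chkRange 0 19310 = true := Cert.chkRange_join (lo := 0) (a := 16890) (b := 2420) _ allC7 Cfsg.Agent.Lib.Y532.D.Top_C8.ok
theorem allC9 : cert.chkRange 0 22109 = true := Cert.chkRange_join (lo := 0) (a := 19310) (b := 2799) _ allC8 Cfsg.Agent.Lib.Y532.D.Top_C9.ok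
theorem allC10 : cert.chkRange 0 24854 = true := Cert.chkRange_join (lo := 0) (a := 22109) (b := 2745) _ allC9 Cfsg.Agent.Lib.Y532.D.Top_C10.ok
theorem allC11 : cert.chkRange 0 27632 = true := Cert.chkRange_join (lo := 0) (a := 24854) (b := 2778) _ allC10 Cfsg.Agent.Lib.Y532.D.Top_C11.ok
theorem allC12 : cert.chkRange 0 30800 = true := Cert.chkRange_join (lo := 0) (a := 27632) (b := 3168) _ allC11 Cfsg.Agent.Lib.Y532.D.Top_C12.ok
theorem allC13 : cert.chkRange 0 33202 = true := Cert.chkRange_join (lo := 0) (a := 30800) (b := 2402) _ allC12 Cfsg.Agent.Lib.Y532.D.Top_C13.ok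

theorem hFinal : cert.chkFinal 0 33202 = true := by decide +kernel

theorem h0 : cert.eLvl (cert.par (cert.find cert.MAX cert.D 0)) = cert.MAX := by decide +kernel

theorem hcount : cert.countRoots cert.N = 1 := by
  rw [countRoots_eq_acc]
  decide +kernel

theorem hchecked : Checked cert where
  hN := by decide
  hC := allC13
  hF := hFinal
  h0 := h0

theorem stage : Lt (K.E Rel) ls' ≤ Lt (K.E Rel) ls ∧
    Nat.card (Lt (K.E Rel) ls) = Nat.card (Lt (K.E Rel) ls') * (Lt (K.E Rel) ls').relIndex (Lt (K.E Rel) ls) ∧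
    (Lt (K.E Rel) ls').relIndex (Lt (K.E Rel) ls) ≠ 0 ∧ (Lt (K.E Rel) ls').relIndex (Lt (K.E Rel) ls) ≤ 1 :=
  stage_of_cols valid hrels ls ls' inv' rels' subs' witT.get cert 1
    (by decide +kernel) (by decide) (by decide +kernel) (by decide +kernel) (by decide +kernel) hchecked hcount

end Cfsg.Agent.Lib.Y532.D.Top
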