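import Cfsg.Agent.Lib.Y532.G
import Cfsg.Agent.Lib.TC.Chain
import Cfsg.Agent.Lib.Y532.D.Top_T0

namespace Cfsg.Agent.Lib.Y532.D.Top_Tab

open Cfsg.Agent.Lib.TC.Core Cfsg.Agent.Lib.TC.Enc Cfsg.Agent.Lib.TC.Pres Cfsg.Agent.Lib.TC.Perm Cfsg.Agent.Lib.TC.Main Cfsg.Agent.Lib.TC.Chain

set_option maxRecDepth 100000

/-- The chunks of the certificate. -/
noncomputable def ctree : Tr Nat := Cfsg.Agent.Lib.Y532.D.Top_T0.tree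

/-- The relator rotations. -/
noncomputable def rotT : Tr (List Nat) := (Tr.node (Tr.node (Tr.node (Tr.node (Tr.node (Tr.node (Tr.node (Tr.leaf [])
 (Tr.leaf [10,0,10,0]))
 (Tr.node (Tr.leaf [4,3,4,3,4,3])
 (Tr.leaf [7,10,7,10])))
 (Tr.node (Tr.node (Tr.leaf [6,5,6,5])
 (Tr.leaf [8,9,8,9]))
 (Tr.node (Tr.leaf [2,1,2,1,2,1])
 (Tr.leaf [7,6,7,6,7,6]))))
 (Tr.node (Tr.node (Tr.node (Tr.leaf [7,7])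
 (Tr.leaf [10,6,10,6]))
 (Tr.node (Tr.leaf [3,2,3,2,3,2])
 (Tr.leaf [5,8,5,8])))
 (Tr.node (Tr.node (Tr.leaf [5,4,5,4,5,4])
 (Tr.leaf [10,7,10,7]))
 (Tr.node (Tr.leaf [10,1,10,1])
 (Tr.leaf [4,5,4,5,4,5])))))
 (Tr.node (Tr.node (Tr.node (Tr.node (Tr.leaf [3,3])
 (Tr.leaf [3,6,3,6]))
 (Tr.node (Tr.leaf [8,3,8,3])
 (Tr.leaf [1,8,1,8])))
 (Tr.node (Tr.node (Tr.leaf [10,5,10,5])
 (Tr.leaf [3,7,3,7]))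
 (Tr.node (Tr.leaf [6,1,6,1])
 (Tr.leaf [2,3,2,3,2,3]))))
 (Tr.node (Tr.node (Tr.node (Tr.leaf [0,5,0,5])
 (Tr.leaf [3,9,3,9]))
 (Tr.node (Tr.leaf [7,2,7,2])
 (Tr.leaf [6,0,6,0,6,0])))
 (Tr.node (Tr.node (Tr.leaf [9,4,9,4])
 (Tr.leaf [2,10,2,10]))
 (Tr.node (Tr.leaf [4,0,4,0])
 (Tr.leaf [2,0,6,7,0,9,10,0,1,2,0,6,7,0,9,10,0,1,2,0,6,7,0,9,10,0,1,2,0,6,7,0,9,10,0,1,2,0,6,7,0,9,10,0,1,2,0,6,7,0,9,10,0,1,2,0,6,7,0,9,10,0,1,2,0,6,7,0,9,10,0,1,2,0,6,7,0,9,10,0,1,2,0,6,7,0,9,10,0,1]))))))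
 (Tr.node (Tr.node (Tr.node (Tr.node (Tr.node (Tr.leaf [1,1])
 (Tr.leaf [1,6,1,6]))
 (Tr.node (Tr.leaf [6,3,6,3])
 (Tr.leaf [9,10,9,10,9,10])))
 (Tr.node (Tr.node (Tr.leaf [8,5,8,5])
 (Tr.leaf [1,7,1,7]))
 (Tr.node (Tr.leaf [4,1,4,1])
 (Tr.leaf [1,2,1,2,1,2]))))
 (Tr.node (Tr.node (Tr.node (Tr.leaf [9,9])
 (Tr.leaf [1,9,1,9]))
 (Tr.node (Tr.leaf [5,2,5,2])
 (Tr.leaf [7,8,7,8,7,8])))
 (Tr.node (Tr.node (Tr.leaf [7,4,7,4])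
 (Tr.leaf [0,10,0,10]))
 (Tr.node (Tr.leaf [2,0,2,0])
 (Tr.leaf [0,1,2,0,6,7,0,9,10,0,1,2,0,6,7,0,9,10,0,1,2,0,6,7,0,9,10,0,1,2,0,6,7,0,9,10,0,1,2,0,6,7,0,9,10,0,1,2,0,6,7,0,9,10,0,1,2,0,6,7,0,9,10,0,1,2,0,6,7,0,9,10,0,1,2,0,6,7,0,9,10,0,1,2,0,6,7,0,9,10])))))
 (Tr.node (Tr.node (Tr.node (Tr.node (Tr.leaf [5,5])
 (Tr.leaf [5,6,5,6]))
 (Tr.node (Tr.leaf [10,3,10,3])
 (Tr.leaf [3,8,3,8])))
 (Tr.node (Tr.node (Tr.leaf [1,4,1,4])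
 (Tr.leaf [5,7,5,7]))
 (Tr.node (Tr.leaf [8,1,8,1])
 (Tr.leaf [9,7,9,7]))))
 (Tr.node (Tr.node (Tr.node (Tr.leaf [2,5,2,5])
 (Tr.leaf [5,9,5,9]))
 (Tr.node (Tr.leaf [9,2,9,2])
 (Tr.leaf [6,10,6,10])))
 (Tr.node (Tr.node (Tr.leaf [0,3,0,3])
 (Tr.leaf [4,10,4,10]))
 (Tr.node (Tr.leaf [7,0,7,0])
 (Tr.leaf [6,7,0,9,10,0,1,2,0,6,7,0,9,10,0,1,2,0,6,7,0,9,10,0,1,2,0,6,7,0,9,10,0,1,2,0,6,7,0,9,10,0,1,2,0,6,7,0,9,10,0,1,2,0,6,7,0,9,10,0,1,2,0,6,7,0,9,10,0,1,2,0,6,7,0,9,10,0,1,2,0,6,7,0,9,10,0,1,2,0])))))))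
 (Tr.node (Tr.node (Tr.node (Tr.node (Tr.node (Tr.node (Tr.leaf [0,0])
 (Tr.leaf [0,6,0,6,0,6]))
 (Tr.node (Tr.leaf [5,3,5,3])
 (Tr.leaf [8,10,8,10])))
 (Tr.node (Tr.node (Tr.leaf [7,5,7,5])
 (Tr.leaf [0,7,0,7]))
 (Tr.node (Tr.leaf [3,1,3,1])
 (Tr.leaf [9,6,9,6]))))
 (Tr.node (Tr.node (Tr.node (Tr.leaf [8,8])
 (Tr.leaf [0,9,0,9,0,9]))
 (Tr.node (Tr.leaf [4,2,4,2])
 (Tr.leaf [6,8,6,8])))
 (Tr.node (Tr.node (Tr.leaf [6,4,6,4])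
 (Tr.leaf [6,9,6,9]))
 (Tr.node (Tr.leaf [1,0,1,0,1,0])
 (Tr.leaf [9,8,9,8])))))
 (Tr.node (Tr.node (Tr.node (Tr.node (Tr.leaf [4,4])
 (Tr.leaf [4,6,4,6]))
 (Tr.node (Tr.leaf [9,3,9,3])
 (Tr.leaf [2,8,2,8])))
 (Tr.node (Tr.node (Tr.leaf [0,4,0,4])
 (Tr.leaf [4,7,4,7]))
 (Tr.node (Tr.leaf [7,1,7,1])
 (Tr.leaf [8,7,8,7,8,7]))))
 (Tr.node (Tr.node (Tr.node (Tr.leaf [1,5,1,5])
 (Tr.leaf [4,9,4,9]))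
 (Tr.node (Tr.leaf [8,2,8,2])
 (Tr.leaf [9,0,9,0,9,0])))
 (Tr.node (Tr.node (Tr.leaf [10,4,10,4])
 (Tr.leaf [3,10,3,10]))
 (Tr.node (Tr.leaf [5,0,5,0])
 (Tr.leaf [0,7,6,0,2,1,0,10,9,0,7,6,0,2,1,0,10,9,0,7,6,0,2,1,0,10,9,0,7,6,0,2,1,0,10,9,0,7,6,0,2,1,0,10,9,0,7,6,0,2,1,0,10,9,0,7,6,0,2,1,0,10,9,0,7,6,0,2,1,0,10,9,0,7,6,0,2,1,0,10,9,0,7,6,0,2,1,0,10,9]))))))
 (Tr.node (Tr.node (Tr.node (Tr.node (Tr.node (Tr.leaf [2,2])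
 (Tr.leaf [2,6,2,6]))
 (Tr.node (Tr.leaf [7,3,7,3])
 (Tr.leaf [0,8,0,8])))
 (Tr.node (Tr.node (Tr.leaf [9,5,9,5])
 (Tr.leaf [2,7,2,7]))
 (Tr.node (Tr.leaf [5,1,5,1])
 (Tr.leaf [10,9,10,9,10,9]))))
 (Tr.node (Tr.node (Tr.node (Tr.leaf [10,10])
 (Tr.leaf [2,9,2,9]))
 (Tr.node (Tr.leaf [6,2,6,2])
 (Tr.leaf [10,8,10,8])))
 (Tr.node (Tr.node (Tr.leaf [8,4,8,4])
 (Tr.leaf [1,10,1,10]))
 (Tr.node (Tr.leaf [3,0,3,0])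
 (Tr.leaf [2,1,0,10,9,0,7,6,0,2,1,0,10,9,0,7,6,0,2,1,0,10,9,0,7,6,0,2,1,0,10,9,0,7,6,0,2,1,0,10,9,0,7,6,0,2,1,0,10,9,0,7,6,0,2,1,0,10,9,0,7,6,0,2,1,0,10,9,0,7,6,0,2,1,0,10,9,0,7,6,0,2,1,0,10,9,0,7,6,0])))))
 (Tr.node (Tr.node (Tr.node (Tr.node (Tr.leaf [6,6])
 (Tr.leaf [8,6,8,6]))
 (Tr.node (Tr.leaf [0,2,0,2])
 (Tr.leaf [4,8,4,8])))
 (Tr.node (Tr.node (Tr.leaf [2,4,2,4])
 (Tr.leaf [6,7,6,7,6,7]))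
 (Tr.node (Tr.leaf [9,1,9,1])
 (Tr.leaf [3,4,3,4,3,4]))))
 (Tr.node (Tr.node (Tr.node (Tr.leaf [3,5,3,5])
 (Tr.leaf [7,9,7,9]))
 (Tr.node (Tr.leaf [10,2,10,2])
 (Tr.leaf [0,1,0,1,0,1])))
 (Tr.node (Tr.node (Tr.leaf [1,3,1,3])
 (Tr.leaf [5,10,5,10]))
 (Tr.node (Tr.leaf [8,0,8,0])
 (Tr.leaf []))))))))

/-- The subgroup rotations. -/
noncomputable def srotT : Tr (List Nat × Nat × List Nat) := (Tr.node (Tr.node (Tr.node (Tr.node (Tr.leaf ([],0,[]))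
 (Tr.leaf ([],9,[])))
 (Tr.node (Tr.leaf ([],4,[]))
 (Tr.leaf ([],0,[]))))
 (Tr.node (Tr.node (Tr.leaf ([],2,[]))
 (Tr.leaf ([],0,[])))
 (Tr.node (Tr.leaf ([],7,[]))
 (Tr.leaf ([],0,[])))))
 (Tr.node (Tr.node (Tr.node (Tr.leaf ([],1,[]))
 (Tr.leaf ([],10,[])))
 (Tr.node (Tr.leaf ([],6,[]))
 (Tr.leaf ([],0,[]))))
 (Tr.node (Tr.node (Tr.leaf ([],3,[]))
 (Tr.leaf ([],0,[])))
 (Tr.node (Tr.leaf ([],8,[]))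
 (Tr.leaf ([],0,[]))))))

/-- The certificate. -/
noncomputable def cert : Cert :=
  mkCert 11 33202 182611 34 127 137 4 15 640 50 550 620 1125899906842623 1180591620717411303423 18 16 262143 65535 34 32 15 ctree.get rotT.get srotT.get

/-- The witnesses of the rotations. -/
noncomputable def witT : Tr (Nat × Nat × Bool) := (Tr.node (Tr.node (Tr.node (Tr.node (Tr.node (Tr.node (Tr.node (Tr.leaf (0,0,false))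
 (Tr.leaf (55,0,false)))
 (Tr.node (Tr.leaf (13,0,false))
 (Tr.leaf (62,1,false))))
 (Tr.node (Tr.node (Tr.leaf (26,0,false))
 (Tr.leaf (53,1,false)))
 (Tr.node (Tr.leaf (4,0,false))
 (Tr.leaf (34,0,false)))))
 (Tr.node (Tr.node (Tr.node (Tr.leaf (35,0,false))
 (Tr.leaf (61,0,false)))
 (Tr.node (Tr.leaf (8,0,false))
 (Tr.leaf (41,1,false))))
 (Tr.node (Tr.node (Tr.leaf (19,0,false))
 (Tr.leaf (62,0,false)))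
 (Tr.node (Tr.leaf (56,0,false))
 (Tr.leaf (19,1,false))))))
 (Tr.node (Tr.node (Tr.node (Tr.node (Tr.leaf (9,0,false))
 (Tr.leaf (24,1,false)))
 (Tr.node (Tr.leaf (39,0,false))
 (Tr.leaf (37,1,false))))
 (Tr.node (Tr.node (Tr.leaf (60,0,false))
 (Tr.leaf (31,1,false)))
 (Tr.node (Tr.leaf (22,0,false))
 (Tr.leaf (8,1,false)))))
 (Tr.node (Tr.node (Tr.node (Tr.leaf (15,1,false))
 (Tr.leaf (48,1,false)))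
 (Tr.node (Tr.leaf (30,0,false))
 (Tr.leaf (21,0,false))))
 (Tr.node (Tr.node (Tr.leaf (49,0,false))
 (Tr.leaf (57,1,false)))
 (Tr.node (Tr.leaf (10,0,false))
 (Tr.leaf (66,2,true)))))))
 (Tr.node (Tr.node (Tr.node (Tr.node (Tr.node (Tr.leaf (2,0,false))
 (Tr.leaf (22,1,false)))
 (Tr.node (Tr.leaf (24,0,false))
 (Tr.leaf (64,1,false))))
 (Tr.node (Tr.node (Tr.leaf (41,0,false))
 (Tr.leaf (29,1,false)))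
 (Tr.node (Tr.leaf (11,0,false))
 (Tr.leaf (4,1,false)))))
 (Tr.node (Tr.node (Tr.node (Tr.leaf (54,0,false))
 (Tr.leaf (46,1,false)))
 (Tr.node (Tr.leaf (17,0,false))
 (Tr.leaf (43,1,false))))
 (Tr.node (Tr.node (Tr.leaf (32,0,false))
 (Tr.leaf (55,1,false)))
 (Tr.node (Tr.leaf (3,0,false))
 (Tr.leaf (66,0,true))))))
 (Tr.node (Tr.node (Tr.node (Tr.node (Tr.leaf (20,0,false))
 (Tr.leaf (26,1,false)))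
 (Tr.node (Tr.leaf (58,0,false))
 (Tr.leaf (39,1,false))))
 (Tr.node (Tr.node (Tr.leaf (11,1,false))
 (Tr.leaf (33,1,false)))
 (Tr.node (Tr.leaf (37,0,false))
 (Tr.leaf (52,0,false)))))
 (Tr.node (Tr.node (Tr.node (Tr.leaf (17,1,false))
 (Tr.leaf (50,1,false)))
 (Tr.node (Tr.leaf (47,0,false))
 (Tr.leaf (61,1,false))))
 (Tr.node (Tr.node (Tr.leaf (6,1,false))
 (Tr.leaf (59,1,false)))
 (Tr.node (Tr.leaf (28,0,false))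
 (Tr.leaf (66,4,true))))))))
 (Tr.node (Tr.node (Tr.node (Tr.node (Tr.node (Tr.node (Tr.leaf (0,0,false))
 (Tr.leaf (21,1,false)))
 (Tr.node (Tr.leaf (18,0,false))
 (Tr.leaf (63,1,false))))
 (Tr.node (Tr.node (Tr.leaf (33,0,false))
 (Tr.leaf (28,1,false)))
 (Tr.node (Tr.leaf (7,0,false))
 (Tr.leaf (51,0,false)))))
 (Tr.node (Tr.node (Tr.node (Tr.leaf (44,0,false))
 (Tr.leaf (45,1,false)))
 (Tr.node (Tr.leaf (12,0,false))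
 (Tr.leaf (42,1,false))))
 (Tr.node (Tr.node (Tr.leaf (25,0,false))
 (Tr.leaf (51,1,false)))
 (Tr.node (Tr.leaf (1,0,false))
 (Tr.leaf (53,0,false))))))
 (Tr.node (Tr.node (Tr.node (Tr.node (Tr.leaf (14,0,false))
 (Tr.leaf (25,1,false)))
 (Tr.node (Tr.leaf (48,0,false))
 (Tr.leaf (38,1,false))))
 (Tr.node (Tr.node (Tr.leaf (10,1,false))
 (Tr.leaf (32,1,false)))
 (Tr.node (Tr.leaf (29,0,false))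
 (Tr.leaf (43,0,false)))))
 (Tr.node (Tr.node (Tr.node (Tr.leaf (16,1,false))
 (Tr.leaf (49,1,false)))
 (Tr.node (Tr.leaf (38,0,false))
 (Tr.leaf (45,0,false))))
 (Tr.node (Tr.node (Tr.leaf (59,0,false))
 (Tr.leaf (58,1,false)))
 (Tr.node (Tr.leaf (15,0,false))
 (Tr.leaf (66,2,false)))))))
 (Tr.node (Tr.node (Tr.node (Tr.node (Tr.node (Tr.leaf (5,0,false))
 (Tr.leaf (23,1,false)))
 (Tr.node (Tr.leaf (31,0,false))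
 (Tr.leaf (36,1,false))))
 (Tr.node (Tr.node (Tr.leaf (50,0,false))
 (Tr.leaf (30,1,false)))
 (Tr.node (Tr.leaf (16,0,false))
 (Tr.leaf (64,0,false)))))
 (Tr.node (Tr.node (Tr.node (Tr.leaf (65,0,false))
 (Tr.leaf (47,1,false)))
 (Tr.node (Tr.leaf (23,0,false))
 (Tr.leaf (63,0,false))))
 (Tr.node (Tr.node (Tr.leaf (40,0,false))
 (Tr.leaf (56,1,false)))
 (Tr.node (Tr.leaf (6,0,false))
 (Tr.leaf (66,6,false))))))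
 (Tr.node (Tr.node (Tr.node (Tr.node (Tr.leaf (27,0,false))
 (Tr.leaf (42,0,false)))
 (Tr.node (Tr.leaf (3,1,false))
 (Tr.leaf (40,1,false))))
 (Tr.node (Tr.node (Tr.leaf (12,1,false))
 (Tr.leaf (34,1,false)))
 (Tr.node (Tr.leaf (46,0,false))
 (Tr.leaf (13,1,false)))))
 (Tr.node (Tr.node (Tr.node (Tr.leaf (18,1,false))
 (Tr.leaf (52,1,false)))
 (Tr.node (Tr.leaf (57,0,false))
 (Tr.leaf (1,1,false))))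
 (Tr.node (Tr.node (Tr.leaf (7,1,false))
 (Tr.leaf (60,1,false)))
 (Tr.node (Tr.leaf (36,0,false))
 (Tr.leaf (0,0,false)))))))))

/-- The letters. -/
def ls : List Nat := [0,1,2,3,4,5,6,7,8,9,10]

/-- The smaller letters. -/
def ls' : List Nat := [0,1,2,3,4,6,7,8,9,10]

/-- The inverses. -/
def inv' (c : Nat) : Nat := [0,1,2,3,4,5,6,7,8,9,10].getD c 0

/-- The relators. -/
def rels' : List (List Nat) :=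
  [[0,0],
   [1,0,1,0,1,0],
   [1,1],
   [2,0,2,0],
   [2,1,2,1,2,1],
   [2,2],
   [3,0,3,0],
   [3,1,3,1],
   [3,2,3,2,3,2],
   [3,3],
   [4,0,4,0],
   [4,1,4,1],
   [4,2,4,2],
   [4,3,4,3,4,3],
   [4,4],
   [5,0,5,0],
   [5,1,5,1],
   [5,2,5,2],
   [5,3,5,3],
   [5,4,5,4,5,4],
   [5,5],
   [6,0,6,0,6,0],
   [6,1,6,1],
   [6,2,6,2],
   [6,3,6,3],
   [6,4,6,4],
   [6,5,6,5],
   [6,6],
   [7,0,7,0],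
   [7,1,7,1],
   [7,2,7,2],
   [7,3,7,3],
   [7,4,7,4],
   [7,5,7,5],
   [7,6,7,6,7,6],
   [7,7],
   [8,0,8,0],
   [8,1,8,1],
   [8,2,8,2],
   [8,3,8,3],
   [8,4,8,4],
   [8,5,8,5],
   [8,6,8,6],
   [8,7,8,7,8,7],
   [8,8],
   [9,0,9,0,9,0],
   [9,1,9,1],
   [9,2,9,2],
   [9,3,9,3],
   [9,4,9,4],
   [9,5,9,5],
   [9,6,9,6],
   [9,7,9,7],
   [9,8,9,8],
   [9,9],
   [10,0,10,0],
   [10,1,10,1],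
   [10,2,10,2],
   [10,3,10,3],
   [10,4,10,4],
   [10,5,10,5],
   [10,6,10,6],
   [10,7,10,7],
   [10,8,10,8],
   [10,9,10,9,10,9],
   [10,10],
   [10,9,0,7,6,0,2,1,0,10,9,0,7,6,0,2,1,0,10,9,0,7,6,0,2,1,0,10,9,0,7,6,0,2,1,0,10,9,0,7,6,0,2,1,0,10,9,0,7,6,0,2,1,0,10,9,0,7,6,0,2,1,0,10,9,0,7,6,0,2,1,0,10,9,0,7,6,0,2,1,0,10,9,0,7,6,0,2,1,0]]

/-- The subgroup. -/
def subs' : List (List Nat) :=
  [[0],[1],[2],[3],[4],[6],[7],[8],[9],[10]]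

end Cfsg.Agent.Lib.Y532.D.Top_Tab
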